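import Cfsg.Agent.H448.FprMers.ChainRgd
import Cfsg.Agent.H441.FPR.TwEA

/-!
# `²E₆(2)`, elements of order `11`
-/

set_option autoImplicit false
set_option linter.unusedSectionVars false
set_option linter.unusedVariables false
set_option maxRecDepth 100000

namespace Cfsg.Agent.H448.FprMers

open CoxeterSystem Cfsg.Agent.ChevalleyStructure.CoxeterGeom Cfsg.Agent.Tits.Roots Cfsg.Agent.Tits.Core
  Cfsg.Agent.Nodes.Reps Cfsg.Agent.Nodes.BNOf Cfsg.Agent.Nodes.RGDTwGen Cfsg.Agent.Nodes.RGDChev Cfsg.Agent.Nodes.RGDFold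
  Cfsg.Agent.Nodes.RGDFoldSL Cfsg.Agent.Nodes.RGDTwE6 Cfsg.Agent.Nodes.RGDTwCoord Cfsg.Agent.Nodes.RGDTwCoordE6
  Cfsg.Agent.Nodes.RGDTwComE6 Cfsg.Agent.Nodes.RGDTwActE6 Cfsg.Agent.Nodes.KindChev Cfsg.Agent.Nodes.Coroot
  Cfsg.Agent.Nodes.PosPair Cfsg.Agent.Nodes.LeviDec Cfsg.Agent.Nodes.StabComb Cfsg.Agent.Nodes.Bruhat
  Cfsg.Agent.Nodes.Unique Cfsg.Agent.KFacts.RgdTI Cfsg.Agent.KFacts.RgdPar Cfsg.Agent.KFacts.RgdSL Cfsg.Agent.Nodes.PosPair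
open Cfsg.Lie Cfsg.Agent.ChevalleyStructure Cfsg.Agent.ChevalleyStructure.Elts
open Cfsg.Agent.H400.TwoExc Cfsg.Agent.H400.TwoExc.TwE Cfsg.Agent.H400.Fpr Cfsg.Agent.H400.Fpr.E6
open Cfsg.Agent.H398.FPR (UGood Good)
open Cfsg.Agent.H409 (FprRow)
open Cfsg.Agent.H441.FPR.Heis Cfsg.Agent.H441.FPR.TwE

universe u

variable {K : Type u} [Field K] [Fintype K] {φ : K →+* K}

/-- an element of order `ℓ` in the Levi factor, `q = 2` -/
theorem exists_L0_two (cs : CoxeterSystem CoxeterMatrix.F₄ CoxeterMatrix.F₄.Group)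
    (hK : Fintype.card K = 2 ^ 2) (hφ : ∀ x, φ x = x ^ 2) (hqq : ∀ t : K, (t ^ 2) ^ 2 = t)
    [CharP K 2] {ℓ : ℕ} (hℓ : ℓ.Prime) (hℓp : ℓ ≠ 2) (hℓ3 : ℓ ≠ 3)
    (hd : ℓ ∣ 2 ^ 36 * (2 - 1) * (2 ^ 2 - 1) * (2 ^ 3 + 1) * (2 ^ 4 - 1) * (2 ^ 5 + 1) * (2 ^ 6 - 1)) :
    ∃ x ∈ L0 cs isCartan (Nodes.RGDTwE6.X φ 2) rr, orderOf x = ℓ := by
  have hW : Finite CoxeterMatrix.F₄.Group := Nodes.RGDFold.finite_W (hp := Nodes.RGDTwE6.hp) cs isCartan foldData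
  have hfin : Finite ↥(twistedE6 K 2) := inferInstance
  have : Fact (Nat.Prime 2) := ⟨Nat.prime_two⟩
  have hd' : ℓ ∣ Nat.card ↥(PS (Nodes.RGDTwE6.T K 2) (Nodes.RGDTwE6.X φ 2) (Ge cs isCartan rr)) := by
    have h1 := card_P cs hφ hqq (Nat.prime_two.isPrimePow) hK 2
    have h2 : ℓ ∣ Nat.gcd 3 (2 + 1) *
        Nat.card ↥(PS (Nodes.RGDTwE6.T K 2) (Nodes.RGDTwE6.X φ 2) (Ge cs isCartan rr)) := by
      have h3 : (((Nat.gcd 3 (2 + 1) *
        Nat.card ↥(PS (Nodes.RGDTwE6.T K 2) (Nodes.RGDTwE6.X φ 2) (Ge cs isCartan rr)) : ℕ) : ℤ)) =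
          ((2 ^ 36 * (2 - 1) * (2 ^ 2 - 1) * (2 ^ 3 + 1) * (2 ^ 4 - 1) * (2 ^ 5 + 1) * (2 ^ 6 - 1) : ℕ) : ℤ) := by
        push_cast
        push_cast at h1
        rw [h1]
      rw [Nat.cast_injective h3]
      exact hd
    rcases (hℓ.dvd_mul).1 h2 with h3 | h3
    · exfalso
      have h4 : Nat.gcd 3 (2 + 1) = 3 := by norm_num
      rw [h4] at h3
      exact hℓ3 ((Nat.prime_dvd_prime_iff_eq hℓ Nat.prime_three).1 h3)
    · exact h3
  have H : Hs (Nodes.RGDTwE6.rgd cs hφ hqq 2) rr := (gi hφ hqq 2 hK (by norm_num)).hs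
  have hQp := isPGroup_QQE (cs := cs) hφ hqq hK (by norm_num) 2
  have h3 : Nat.Coprime 3 ℓ := (Nat.coprime_primes Nat.prime_three hℓ).2 (Ne.symm hℓ3)
  refine exists_L0 (N := 2 ^ 2 - 1) H hℓ hℓp (by norm_num; exact h3) ?_ hQp hd'
  intro t ht
  have h1 : ((t : ↥(twistedE6 K 2)) : GL chevE6.Idx K) ∈ chevE6.diagonalSubgroup K := (Subgroup.mem_subgroupOf.1 ht).1
  apply Subtype.ext
  rw [Subgroup.coe_pow, Subgroup.coe_one, ← hK]
  exact tor_pow (by simp) h1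

/-- **`²E₆(2)`, order `11`.** -/
theorem good_2E6_two_eleven (hs : IsSimpleGroup ↥(twistedE6 K 2)) (hcen : Subgroup.center ↥(twistedE6 K 2) = ⊥)
    (hK : Fintype.card K = 2 ^ 2) (hφ : ∀ x, φ x = x ^ 2) (hqq : ∀ t : K, (t ^ 2) ^ 2 = t)
    [CharP K 2] : Good 1 12 11 ↥(twistedE6 K 2) := by
  let cs : CoxeterSystem CoxeterMatrix.F₄ _ := CoxeterMatrix.F₄.toCoxeterSystem
  have hW : Finite CoxeterMatrix.F₄.Group := Nodes.RGDFold.finite_W (hp := Nodes.RGDTwE6.hp) cs isCartan foldData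
  have hfin : Finite ↥(twistedE6 K 2) := inferInstance
  have : Fact (Nat.Prime 2) := ⟨Nat.prime_two⟩
  have hℓ : Nat.Prime 11 := by norm_num
  obtain ⟨x, hx, hxo⟩ := exists_L0_two cs hK hφ hqq hℓ (by norm_num) (by norm_num) (by norm_num)
  have H : Hs (Nodes.RGDTwE6.rgd cs hφ hqq 2) rr := (gi hφ hqq 2 hK (by norm_num)).hs
  have hQp := isPGroup_QQE (cs := cs) hφ hqq hK (by norm_num) 2
  have hx11 : x ^ 11 ^ 1 = 1 := by rw [pow_one, ← hxo]; exact pow_orderOf_eq_one x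
  have hM : ∀ t : ℕ, t ≠ 0 → 2 ^ t ≡ 1 [MOD 11] → 1024 ≤ 2 ^ t := by
    intro t ht h1
    have h2 : 10 ∣ t := by
      have h3 : orderOf ((2 : ZMod 11)) = 10 := by
        rw [orderOf_eq_iff (by norm_num)]
        decide
      rw [← h3]
      apply orderOf_dvd_of_pow_eq_one
      have h4 := (ZMod.natCast_eq_natCast_iff _ _ _).2 h1
      push_cast at h4
      exact h4
    have h3 : 10 ≤ t := Nat.le_of_dvd (by omega) h2
    calc 1024 = 2 ^ 10 := by norm_num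
      _ ≤ 2 ^ t := Nat.pow_le_pow_right (by norm_num) h3
  have hN : Nat.card ↥(twistedE6 K 2) < 2 ^ 77 := by
    have h1 := Cfsg.Agent.S1066.result (K := K) (q := 2) Nat.prime_two.isPrimePow hK
    norm_num at h1
    norm_num
    omega
  have key := chain_rgd (M' := 11) (k := 1) H hs hcen (Nodes.RGDTwE6.G1_eq_top cs hφ hqq) hℓ (by norm_num) hx hx11 (by
    rintro rfl
    rw [orderOf_one] at hxo
    norm_num at hxo) hQp hM hN (by norm_num)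
  exact key.good ⟨1, by rw [hxo, pow_one]⟩

/-- **`²E₆(2)`, `p = 11`.** -/
theorem row_2E6_two_eleven (hK : Fintype.card K = 2 ^ 2) (hφ : ∀ x, φ x = x ^ 2) :
    FprRow 12 1 11 ↥(twistedE6 K 2) := by
  have hqq : ∀ t : K, (t ^ 2) ^ 2 = t := fun t => by
    rw [← pow_mul]
    have h1 := FiniteField.pow_card t
    rw [hK] at h1
    exact h1
  have hchar : CharP K 2 := by
    have h3 : (2 : K) = 0 := by
      have h4 : ((Fintype.card K : ℕ) : K) = 0 := FiniteField.cast_card_eq_zero K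
      rw [hK] at h4
      rw [Nat.cast_pow, Nat.cast_ofNat] at h4
      exact (pow_eq_zero_iff (two_ne_zero)).1 h4
    exact CharTwo.of_one_ne_zero_of_two_eq_zero one_ne_zero h3
  obtain ⟨hs, hnc⟩ := Cfsg.Agent.S1070.result (K := K) (q := 2) Nat.prime_two.isPrimePow hK
  have hcen : Subgroup.center ↥(twistedE6 K 2) = ⊥ := by
    rcases hs.eq_bot_or_eq_top_of_normal _ (inferInstance : (Subgroup.center ↥(twistedE6 K 2)).Normal) with h | h
    · exact h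
    · exact absurd ⟨⟨fun a b => (Subgroup.mem_center_iff.1 (h ▸ Subgroup.mem_top b) a)⟩⟩ hnc
  exact good_2E6_two_eleven hs hcen hK hφ hqq

end Cfsg.Agent.H448.FprMers

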