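import Cfsg.Agent.H448.FprMers.D4Two
import Cfsg.Agent.H452.FprJ1
import Cfsg.Agent.H398.FPR.Frob

/-!
# `³D₄(2)`: the rows for the primes `7` and `3`
-/

set_option autoImplicit false

namespace Cfsg.Agent.H448.FprMers

open Subgroup MulAction
open Cfsg.Agent.H398.FPR Cfsg.Agent.H409 Cfsg.Agent.H448.FprMers.D4Two
open Cfsg.Agent.Nodes.RGDFoldSL (Fx mem_Fx)

theorem orderOf_pow_of {G : Type*} [Group G] {p : ℕ} (hp : p.Prime) {x : G} (h : x ^ p = 1) :
    ∃ k : ℕ, orderOf x = p ^ k := by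
  rcases (Nat.dvd_prime hp).1 (orderOf_dvd_of_pow_eq_one h) with h1 | h1
  · exact ⟨0, by rw [h1, pow_zero]⟩
  · exact ⟨1, by rw [h1, pow_one]⟩

theorem row_of_uGood {G : Type*} [Group G] {p b : ℕ} (hp : p.Prime) {x : G} (h : x ^ p = 1)
    (hx : UGood 1 b x) : FprRow b 1 p G := fun H hH => ⟨x, orderOf_pow_of hp h, hx H hH⟩

/-- an element of order `3` of `SL₂` -/
def M3 (F : Type*) [Field F] : Matrix.SpecialLinearGroup (Fin 2) F :=
  ⟨!![0, -1; 1, -1], by simp [Matrix.det_fin_two]⟩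

theorem M3_pow (F : Type*) [Field F] : M3 F ^ 3 = 1 := by
  apply Subtype.ext
  rw [Matrix.SpecialLinearGroup.coe_pow, Matrix.SpecialLinearGroup.coe_one]
  show (!![0, -1; 1, -1] : Matrix (Fin 2) (Fin 2) F) ^ 3 = 1
  rw [pow_succ, pow_two]
  ext i j
  fin_cases i <;> fin_cases j <;> simp [Matrix.mul_apply, Fin.sum_univ_two]

theorem M3_ne (F : Type*) [Field F] : M3 F ≠ 1 := by
  intro h
  have := congrFun (congrFun (congrArg Subtype.val h) 1) 0
  rw [Matrix.SpecialLinearGroup.coe_one] at this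
  simp [M3] at this

theorem orderOf_M3 (F : Type*) [Field F] : orderOf (M3 F) = 3 :=
  orderOf_eq_prime (M3_pow F) (M3_ne F)

universe u

variable {K : Type u} [Field K] [Fintype K] {φ : K →+* K}

theorem card_Fx (hK : Fintype.card K = 2 ^ 3) (hφ : ∀ x, φ x = x ^ 2) :
    Nat.card (Fx φ ((Nodes.RGDTwNode.D4.rest 1).length + 1)) = 8 := by
  have h : Fx φ ((Nodes.RGDTwNode.D4.rest 1).length + 1) = ⊤ := by
    rw [eq_top_iff]
    intro u _
    exact H400.Fpr.D4.mem_Fx3 hK hφ u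
  rw [h]
  have : Nat.card (⊤ : Subfield K) = Nat.card K := Nat.card_congr (Subfield.topEquiv (K := K)).toEquiv
  rw [this, Nat.card_eq_fintype_card, hK]
  norm_num

/-- **`³D₄(2)`, `p = 7`.** -/
theorem row_3D4_two_seven (hK : Fintype.card K = 2 ^ 3) (hφ : ∀ x, φ x = x ^ 2) :
    FprRow 8 1 7 ↥(Cfsg.Lie.twistedD4 K 2) := by
  obtain ⟨M, h1, h2⟩ := uGood_seven hK hφ
  exact row_of_uGood (by norm_num) h1 h2

/-- **`³D₄(2)`, `p = 3`.** -/
theorem row_3D4_two_three (hK : Fintype.card K = 2 ^ 3) (hφ : ∀ x, φ x = x ^ 2) :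
    FprRow 4 1 3 ↥(Cfsg.Lie.twistedD4 K 2) := by
  obtain ⟨M, h1, h2⟩ := uGood_seven hK hφ
  obtain ⟨f, hf⟩ : ∃ f, f = H400.Fpr.D4.Ph hφ (Cfsg.Agent.ChevalleyStructure.D4Fixed.twisted_le_fix hK hφ) 1 := ⟨_, rfl⟩
  rw [← hf] at h1 h2
  have hF := card_Fx hK hφ
  have hfin : Finite (Fx φ ((Nodes.RGDTwNode.D4.rest 1).length + 1)) := inferInstance
  let hft : Fintype (Fx φ ((Nodes.RGDTwNode.D4.rest 1).length + 1)) := Fintype.ofFinite _
  rw [Nat.card_eq_fintype_card] at hF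
  have hchar : CharP (Fx φ ((Nodes.RGDTwNode.D4.rest 1).length + 1)) 2 := by
    have h3 := two_zero (K := Fx φ ((Nodes.RGDTwNode.D4.rest 1).length + 1)) (by rw [hF]; norm_num)
    exact CharTwo.of_one_ne_zero_of_two_eq_zero one_ne_zero h3
  have h7 : UGood 1 7 (M3 (Fx φ ((Nodes.RGDTwNode.D4.rest 1).length + 1))) :=
    Cfsg.Agent.H452.FprJ1.sl_ugood (by omega) (by rw [hF]; norm_num) (orderOf_M3 _)
  have h8 := h7.of_surjective (f := f.rangeRestrict) f.rangeRestrict_surjective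
  have h9 := growth_uGood (K := f.range) (x := f (M3 _)) (y := f M) ⟨_, rfl⟩ ⟨_, rfl⟩ (by norm_num) h8 h2
  refine row_of_uGood (by norm_num) (x := f (M3 _)) (by rw [← map_pow, M3_pow, map_one]) ?_
  exact h9.mono (by norm_num) (by norm_num)

end Cfsg.Agent.H448.FprMers
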