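import Cfsg.Agent.H400.FprD4F
import Cfsg.Agent.H448.FprMers.Six
import Cfsg.Agent.H409.FprBasic

/-!
# `³D₄(2)`: the primes `7` and `3`
-/

set_option autoImplicit false
set_option linter.unusedSectionVars false
set_option linter.unusedVariables false

namespace Cfsg.Agent.H448.FprMers.D4Two

open CoxeterSystem Cfsg.Agent.ChevalleyStructure.CoxeterGeom Cfsg.Agent.Tits.Roots Cfsg.Agent.Tits.Core
  Cfsg.Agent.Nodes.Reps Cfsg.Agent.Nodes.BNOf Cfsg.Agent.Nodes.RGDTwGen Cfsg.Agent.Nodes.RGDChev Cfsg.Agent.Nodes.RGDFold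
  Cfsg.Agent.Nodes.KindChev Cfsg.Agent.Nodes.Coroot Cfsg.Agent.Nodes.PosPair Cfsg.Agent.Nodes.LeviDec
  Cfsg.Agent.Nodes.StabComb Cfsg.Agent.Nodes.Bruhat Cfsg.Agent.Nodes.Unique
open Cfsg.Lie Cfsg.Agent.ChevalleyStructure
open Cfsg.Agent.ChevalleyStructure.TwistedU Cfsg.Agent.ChevalleyStructure.D4U
  Cfsg.Agent.ChevalleyStructure.D4Comm Cfsg.Agent.ChevalleyStructure.D4RGD Cfsg.Agent.ChevalleyStructure.D4Twisted
open Cfsg.Agent.Nodes.RGDTwD4 (A isCartan foldData hp)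
open Cfsg.Agent.Hexagon.TwD4Par Cfsg.Agent.Hexagon.TwD4Rel
open Cfsg.Agent.SplitTwo
open Cfsg.Agent.Omega.EH3.Kf
open Cfsg.Agent.H400.TwoExc Cfsg.Agent.H400.TwoExc.TwD Cfsg.Agent.H400.Fpr Cfsg.Agent.H400.Fpr.D4
open Cfsg.Agent.H398.FPR (CommFull UGood Pair)
open Cfsg.Agent.Nodes.RGDFoldSL
open scoped commutatorElement MatrixGroups

universe u

section Act

variable {K : Type u} [Field K] [Fintype K] {q : ℕ} {φ : K →+* K}
variable (hφ : ∀ x, φ x = x ^ q) (hle : twistedD4 K q ≤ D4Fixed.fix φ)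
variable {σ : K ≃+* K} (hσ : ∀ x, σ x = φ x)

include hσ

theorem hβ_x3 (hK : Fintype.card K = q ^ 3) {y : K} (hN : y * φ y * φ (φ y) = 1) (a : K) :
    hβ hφ hle hK y * ev (X3 σ) a * (hβ hφ hle hK y)⁻¹ = ev (X3 σ) ((y ^ 2)⁻¹ * a) := by
  have hy : y ≠ 0 := by
    rintro rfl
    simp at hN
  have hy1 : φ y ≠ 0 := (map_ne_zero φ).2 hy
  have hy2 : φ (φ y) ≠ 0 := (map_ne_zero φ).2 hy1
  apply Subtype.ext
  rw [Subgroup.coe_mul, Subgroup.coe_mul, Subgroup.coe_inv, coe_hβ, c3 hφ hσ, c3 hφ hσ, X3, X3, w3_eq, w3_eq, conj3,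
    hb_c hy (r := 17) (c1 := 0) (c2 := -1) (c3 := 1) (c4 := 1) (by norm_num) (by decide +kernel),
    hb_c hy (r := 20) (c1 := 0) (c2 := 1) (c3 := -1) (c4 := 1) (by norm_num) (by decide +kernel),
    hb_c hy (r := 21) (c1 := 0) (c2 := 1) (c3 := 1) (c4 := -1) (by norm_num) (by decide +kernel)]
  simp only [zpow_neg_one, zpow_one, hσ, map_mul, map_pow, map_inv₀]
  congr 2
  · field_simp
    linear_combination (-a) * hN
  · congr 1
    field_simp
    linear_combination (φ a) * hN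
  · congr 1
    field_simp
    linear_combination (φ (φ a)) * hN

theorem hβ_x2 (hK : Fintype.card K = q ^ 3) {y : K} (hN : y * φ y * φ (φ y) = 1) {t : K} (ht : σ t = t) :
    hβ hφ hle hK y * ev X2 t * (hβ hφ hle hK y)⁻¹ = ev X2 t := by
  have hy : y ≠ 0 := by
    rintro rfl
    simp at hN
  apply Subtype.ext
  rw [Subgroup.coe_mul, Subgroup.coe_mul, Subgroup.coe_inv, coe_hβ, c2 hφ hσ ht, X2, w1_eq,
    hb_c hy (r := 22) (c1 := -1) (c2 := 1) (c3 := 1) (c4 := 1) (by norm_num) (by decide +kernel)]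
  simp only [zpow_one]
  congr 1
  linear_combination t * hN

theorem hβ_x6 (hK : Fintype.card K = q ^ 3) {y : K} (hN : y * φ y * φ (φ y) = 1) {t : K} (ht : σ t = t) :
    hβ hφ hle hK y * ev X6 t * (hβ hφ hle hK y)⁻¹ = ev X6 t := by
  have hy : y ≠ 0 := by
    rintro rfl
    simp at hN
  have hy1 : φ y ≠ 0 := (map_ne_zero φ).2 hy
  have hy2 : φ (φ y) ≠ 0 := (map_ne_zero φ).2 hy1
  apply Subtype.ext
  rw [Subgroup.coe_mul, Subgroup.coe_mul, Subgroup.coe_inv, coe_hβ, c6 hφ hσ ht, X6, w1_eq,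
    hb_c hy (r := 14) (c1 := 2) (c2 := -1) (c3 := -1) (c4 := -1) (by norm_num) (by decide +kernel)]
  simp only [zpow_neg_one]
  congr 1
  field_simp
  linear_combination (-t) * hN

end Act

/-- the six short roots in cyclic order -/
def rts : Fin 6 → (Fin 2 → ℤ) :=
  ![toV [0, 1], toV [1, 2], toV [1, 1], -toV [0, 1], -toV [1, 2], -toV [1, 1]]

/-- the Cartan integers -/
def cc6 (j i : Fin 6) : ℤ :=
  2 * qf AG2t (toV dlG2t) (rts j) (rts i) / qf AG2t (toV dlG2t) (rts i) (rts i)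

theorem tab : ∀ i j : Fin 6, 2 * qf AG2t (toV dlG2t) (rts j) (rts i) = cc6 j i * qf AG2t (toV dlG2t) (rts i) (rts i) ∧
    qf AG2t (toV dlG2t) (rts i) (rts i) ≠ 0 ∧ rts j - cc6 j i • rts i = rts (2 * i + 3 - j) ∧
    rts (i + 3) = -rts i := by
  decide +kernel

section Rts

variable {W : Type*} [Group W] [Finite W] {cs : CoxeterSystem CoxeterMatrix.G₂ W}

theorem rts_root (i : Fin 6) : IsRoot cs isCartan (rts i) := by
  fin_cases i
  · exact r01
  · exact r12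
  · exact r11
  · exact r01.neg
  · exact r12.neg
  · exact r11.neg

variable {K : Type u} [Field K] [Fintype K] {q : ℕ} {φ : K →+* K}

theorem cl6 (hK : Fintype.card K = q ^ 3) (hφ : ∀ x, φ x = x ^ q) (H : Subgroup ↥(twistedD4 K q)) (i : Fin 6)
    (h1 : Nodes.RGDTwD4.X φ q (rts i) ≤ H) (h2 : Nodes.RGDTwD4.X φ q (rts (i + 3)) ≤ H) (j : Fin 6)
    (h3 : Nodes.RGDTwD4.X φ q (rts j) ≤ H) : Nodes.RGDTwD4.X φ q (rts (2 * i + 3 - j)) ≤ H := by
  have t := tab i j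
  rw [t.2.2.2] at h2
  have hW : Finite CoxeterMatrix.G₂.Group := Nodes.RGDFold.finite_W (hp := Nodes.RGDTwD4.hp)
    CoxeterMatrix.G₂.toCoxeterSystem isCartan foldData
  exact refl_le (cs := CoxeterMatrix.G₂.toCoxeterSystem) hK hφ (rts_root i) (rts_root j) h1 h2 h3 (cc6 j i) t.1 t.2.1 t.2.2.1

theorem top6 (hK : Fintype.card K = q ^ 3) (hφ : ∀ x, φ x = x ^ q) (H : Subgroup ↥(twistedD4 K q))
    (h : ∀ i, Nodes.RGDTwD4.X φ q (rts i) ≤ H) : H = ⊤ := by
  obtain ⟨σ, hσ, hB, P⟩ := exists_sigma hK hφ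
  let cs : CoxeterSystem CoxeterMatrix.G₂ _ := CoxeterMatrix.G₂.toCoxeterSystem
  have hW : Finite CoxeterMatrix.G₂.Group := Nodes.RGDFold.finite_W (hp := Nodes.RGDTwD4.hp) cs isCartan foldData
  have hG1 := Nodes.RGDTwD4.G1_eq_top cs hK hφ
  have hle := D4Fixed.twisted_le_fix hK hφ
  have a01 : Nodes.RGDTwD4.X φ q (toV [0, 1]) ≤ H := h 0
  have a12 : Nodes.RGDTwD4.X φ q (toV [1, 2]) ≤ H := h 1
  have a11 : Nodes.RGDTwD4.X φ q (toV [1, 1]) ≤ H := h 2
  have n01 : Nodes.RGDTwD4.X φ q (-toV [0, 1]) ≤ H := h 3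
  have n12 : Nodes.RGDTwD4.X φ q (-toV [1, 2]) ≤ H := h 4
  have n11 : Nodes.RGDTwD4.X φ q (-toV [1, 1]) ≤ H := h 5
  have a13 : Nodes.RGDTwD4.X φ q (toV [1, 3]) ≤ H := by
    rw [X2' hle]
    intro g hg
    obtain ⟨c, hc', rfl⟩ := (P.mem2 g).1 hg
    obtain ⟨b, hb⟩ := exists_tr P.rel.cube hB (a := 1) (c := c) one_ne_zero hc'
    rw [← hb, ← com13 P, commutatorElement_def]
    have m1 : ev (X1 σ) (1 : K) ∈ H := a01 (by rw [X1' hle]; exact (P.mem1 _).2 ⟨_, rfl⟩)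
    have m3 : ev (X3 σ) b ∈ H := a12 (by rw [X3' hle]; exact (P.mem3 _).2 ⟨_, rfl⟩)
    exact mul_mem (mul_mem (mul_mem m1 m3) (inv_mem m1)) (inv_mem m3)
  have a10 : Nodes.RGDTwD4.X φ q (toV [1, 0]) ≤ H :=
    refl_le (cs := cs) hK hφ (z := toV [0, 1]) (y := toV [1, 3]) r01 r13 a01 n01 a13 3 (by decide +kernel)
      (by decide +kernel) (by decide +kernel)
  have n23 : Nodes.RGDTwD4.X φ q (-toV [2, 3]) ≤ H :=
    refl_le (cs := cs) hK hφ (z := toV [1, 1]) (y := toV [1, 0]) r11 r10 a11 n11 a10 3 (by decide +kernel)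
      (by decide +kernel) (by decide +kernel)
  have a23 : Nodes.RGDTwD4.X φ q (toV [2, 3]) ≤ H := by
    rw [X4' hle]
    intro g hg
    obtain ⟨c, hc', rfl⟩ := (P.mem4 g).1 hg
    obtain ⟨b, hb⟩ := exists_tr P.rel.cube hB (a := 1) (c := c) one_ne_zero hc'
    rw [← hb, ← com35 P, commutatorElement_def]
    have m1 : ev (X3 σ) (1 : K) ∈ H := a12 (by rw [X3' hle]; exact (P.mem3 _).2 ⟨_, rfl⟩)
    have m3 : ev (X5 σ) b ∈ H := a11 (by rw [X5' hle]; exact (P.mem5 _).2 ⟨_, rfl⟩)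
    exact mul_mem (mul_mem (mul_mem m1 m3) (inv_mem m1)) (inv_mem m3)
  have n13 : Nodes.RGDTwD4.X φ q (-toV [1, 3]) ≤ H :=
    refl_le (cs := cs) hK hφ (z := toV [1, 2]) (y := toV [2, 3]) r12 r23 a12 n12 a23 3 (by decide +kernel)
      (by decide +kernel) (by decide +kernel)
  have n10 : Nodes.RGDTwD4.X φ q (-toV [1, 0]) ≤ H :=
    refl_le (cs := cs) hK hφ (z := toV [1, 1]) (y := toV [2, 3]) r11 r23 a11 n11 a23 3 (by decide +kernel)
      (by decide +kernel) (by decide +kernel)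
  rw [eq_top_iff, ← hG1]
  refine RGD.Sup_le fun z hz => ?_
  have hz' : IsRoot cs isCartan z := hz
  rcases hz'.pos_or_neg with h0 | h0
  · rcases six hz' h0 with rfl | rfl | rfl | rfl | rfl | rfl
    · exact a01
    · exact a13
    · exact a12
    · exact a23
    · exact a11
    · exact a10
  · have h1 : 0 ≤ -z := fun i => by
      have := h0 i
      simp only [Pi.neg_apply, Pi.zero_apply] at this ⊢
      omega
    have key : ∀ y : Fin 2 → ℤ, -z = y → Nodes.RGDTwD4.X φ q (-y) ≤ H → Nodes.RGDTwD4.X φ q z ≤ H := by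
      rintro y rfl h
      rwa [neg_neg] at h
    rcases six hz'.neg h1 with h2 | h2 | h2 | h2 | h2 | h2
    · exact key _ h2 n01
    · exact key _ h2 n13
    · exact key _ h2 n12
    · exact key _ h2 n23
    · exact key _ h2 n11
    · exact key _ h2 n10

end Rts

theorem mem_cj_iff {G : Type*} [Group G] {E : Type*} {f : E → G} {X : Subgroup G} (hX : ∀ g, g ∈ X ↔ ∃ a, f a = g)
    (g : G) (H : Subgroup G) : (∀ u, g * f u * g⁻¹ ∈ H) ↔ cj g X ≤ H := by
  constructor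
  · rintro h _ ⟨y, hy, rfl⟩
    obtain ⟨a, rfl⟩ := (hX y).1 hy
    exact h a
  · intro h u
    exact h ⟨f u, (hX _).2 ⟨u, rfl⟩, rfl⟩

variable {K : Type u} [Field K] [Fintype K] {φ : K →+* K}

/-- an element of order `7` -/
theorem exists_lam (hK : Nat.card K = 8) (h2 : (2 : K) = 0) : ∃ c : K, D7.Lam c := by
  have : Finite K := (Nat.card_pos_iff.1 (by omega)).2
  obtain ⟨g, hg⟩ := IsCyclic.exists_generator (α := Kˣ)
  have hcard : Nat.card Kˣ = 7 := by rw [Nat.card_units, hK]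
  have ho : orderOf g = 7 := by rw [← hcard]; exact orderOf_eq_card_of_forall_mem_zpowers hg
  have h7 : (g : K) ^ 7 = 1 := by
    rw [← Units.val_pow_eq_pow_val, ← ho, pow_orderOf_eq_one, Units.val_one]
  have h1 : (g : K) ≠ 1 := by
    intro h
    have : g = 1 := Units.ext h
    rw [this, orderOf_one] at ho
    omega
  have gen : ∀ u : K, u ≠ 0 → ∃ i : ℕ, u = (g : K) ^ i := by
    intro u hu
    obtain ⟨i, hi⟩ := (mem_powers_iff_mem_zpowers (x := g)).2 (hg (Units.mk0 u hu))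
    refine ⟨i, ?_⟩
    have := congrArg Units.val hi
    simpa using this.symm
  have hfac : ((g : K) ^ 3 + g + 1) * ((g : K) ^ 3 + (g : K) ^ 2 + 1) = 0 := by
    have e : ((g : K) - 1) * (((g : K) ^ 3 + g + 1) * ((g : K) ^ 3 + (g : K) ^ 2 + 1)) = 0 := by
      have e2 : ((g : K) - 1) * (((g : K) ^ 3 + g + 1) * ((g : K) ^ 3 + (g : K) ^ 2 + 1)) =
          ((g : K) ^ 7 - 1) + 2 * ((g : K) ^ 4 - (g : K) ^ 3) := by ring
      rw [e2, h7, h2]
      ring
    exact (mul_eq_zero.1 e).resolve_left (sub_ne_zero.2 h1)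
  rcases mul_eq_zero.1 hfac with h3 | h3
  · refine ⟨g, h2, ?_, gen⟩
    linear_combination h3 - (g + 1) * h2
  · refine ⟨(g : K)⁻¹, h2, ?_, ?_⟩
    · have hg0 : (g : K) ≠ 0 := g.ne_zero
      field_simp
      linear_combination (-1) * h3 + (1 : K) * h2
    · intro u hu
      obtain ⟨i, hi⟩ := gen u⁻¹ (inv_ne_zero hu)
      exact ⟨i, by rw [inv_pow, ← hi, inv_inv]⟩

section Main

variable (hK : Fintype.card K = 2 ^ 3) (hφ : ∀ x, φ x = x ^ 2)

theorem two_zero (hK : Fintype.card K = 2 ^ 3) : (2 : K) = 0 := by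
  obtain ⟨p, hp⟩ := CharP.exists K
  have : Fact p.Prime := ⟨CharP.char_is_prime K p⟩
  obtain ⟨n, hp', hn⟩ := FiniteField.card K p
  have h1 : p ∣ 2 ^ 3 := by rw [← hK, hn]; exact dvd_pow_self p n.2.ne'
  have h2 : p = 2 := (Nat.prime_dvd_prime_iff_eq hp' Nat.prime_two).1 (hp'.dvd_of_dvd_pow h1)
  subst h2
  exact_mod_cast CharP.cast_eq_zero K 2

include hK hφ in
theorem uGood_seven : ∃ M : Matrix.SpecialLinearGroup (Fin 2) (Fx φ ((Nodes.RGDTwNode.D4.rest 1).length + 1)),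
    (Ph hφ (D4Fixed.twisted_le_fix hK hφ) 1 M) ^ 7 = 1 ∧
    UGood 1 8 (Ph hφ (D4Fixed.twisted_le_fix hK hφ) 1 M) := by
  obtain ⟨σ, hσ, hB, P⟩ := exists_sigma hK hφ
  let cs : CoxeterSystem CoxeterMatrix.G₂ _ := CoxeterMatrix.G₂.toCoxeterSystem
  have hW : Finite CoxeterMatrix.G₂.Group := Nodes.RGDFold.finite_W (hp := Nodes.RGDTwD4.hp) cs isCartan foldData
  obtain ⟨p, hp'⟩ := CharP.exists K
  have : Fact p.Prime := ⟨CharP.char_is_prime K p⟩
  have R := Nodes.RGDTwD4.rgd cs hK hφ p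
  have hG1 := Nodes.RGDTwD4.G1_eq_top cs hK hφ
  have hle := D4Fixed.twisted_le_fix hK hφ
  have hKc : Nat.card K = 8 := by rw [Nat.card_eq_fintype_card, hK]; norm_num
  have h2 := two_zero hK
  obtain ⟨c, L⟩ := exists_lam hKc h2
  have hc0 := L.ne_zero
  have hc8 : c ^ 8 = c := by
    have := FiniteField.pow_card c
    rwa [hK] at this
  have hc7 : c ^ 7 = 1 := by
    have h : c * c ^ 7 = c * 1 := by
      calc c * c ^ 7 = c ^ 8 := by ring
        _ = c * 1 := by rw [hc8, mul_one]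
    exact mul_left_cancel₀ hc0 h
  obtain ⟨y, hy⟩ : ∃ y : K, y = c ^ 4 := ⟨_, rfl⟩
  have hy0 : y ≠ 0 := by rw [hy]; exact pow_ne_zero 4 hc0
  have hy2 : y ^ 2 = c := by
    rw [hy, ← pow_mul]; exact hc8
  have hy7 : y ^ 7 = 1 := by
    rw [hy, ← pow_mul, mul_comm, pow_mul, hc7, one_pow]
  have hN : y * φ y * φ (φ y) = 1 := by
    rw [hφ, hφ, ← hy7]
    ring
  refine ⟨hS ⟨y, mem_Fx3 hK hφ y⟩, ?_, ?_⟩
  · exact hβ_pow hφ hle hK hy0 hy7
  show UGood 1 8 (hβ hφ hle hK y)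
  have e1 := hβ_x1 hφ hle hσ hK hy0
  have e3 := hβ_x3 hφ hle hσ hK hN
  have e2 := fun {t : K} (ht : σ t = t) => hβ_x2 hφ hle hσ hK hN ht
  have e6 := fun {t : K} (ht : σ t = t) => hβ_x6 hφ hle hσ hK hN ht
  rw [hy2] at e3
  have e1' : ∀ a, hβ hφ hle hK y * ev (X1 σ) a * (hβ hφ hle hK y)⁻¹ = ev (X1 σ) (c * a) := by
    intro a; rw [e1, hy2]
  have hxL : hβ hφ hle hK y ∈ Nodes.RGDTwD4.X φ 2 (sr 1) ⊔ Nodes.RGDTwD4.X φ 2 (-sr 1) := Ph_mem hφ hle hK 1 _
  clear e1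
  revert hxL e1' e3 e2 e6
  generalize hβ hφ hle hK y = x
  intro e3 e2 e6 e1 hxL
  have hc1 : ∀ g, g ∈ Hexagon.TwD4RGD.X K 2 1 ↔ ∃ a, ev (X1 σ) a = g := P.mem1
  have hc3 : ∀ g, g ∈ Hexagon.TwD4RGD.X K 2 3 ↔ ∃ a, ev (X3 σ) a = g := P.mem3
  have D : D7 x (ev (X1 σ)) (ev (X3 σ)) (Hexagon.TwD4RGD.X K 2 2) c := by
    have hm1 : ∀ s, ev (X1 σ) s ∈ Hexagon.TwD4RGD.X K 2 1 := fun s => (P.mem1 _).2 ⟨s, rfl⟩
    have hm3 : ∀ s, ev (X3 σ) s ∈ Hexagon.TwD4RGD.X K 2 3 := fun s => (P.mem3 _).2 ⟨s, rfl⟩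
    have hx20 : (ev X2 (0 : K) : ↥(twistedD4 K 2)) = 1 := x2_zero P
    have hne : ∀ s t : K, trc σ s t = 1 → (ev (X1 σ) s : ↥(twistedD4 K 2)) * ev (X3 σ) t ≠ ev (X3 σ) t * ev (X1 σ) s := by
      intro s t hst h
      have h1 := com13 P s t
      rw [hst, commutatorElement_def, h] at h1
      have h3 : (ev X2 (1 : K) : ↥(twistedD4 K 2)) = 1 := by rw [← h1]; group
      have h4 := P.inj2 1 0 (map_one σ) (map_zero σ) (by rw [h3, hx20])
      exact one_ne_zero h4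
    refine ⟨P.rel.add1, P.rel.add3, ?_, ?_, ?_, ?_, ?_, ?_, e1, e3, ?_⟩
    · intro s t
      refine ⟨(ev X2 (trc σ s t))⁻¹, ?_, ?_⟩
      · exact inv_mem ((P.mem2 _).2 ⟨_, map_trc P.rel.cube _ _, rfl⟩)
      · have h1 := P.rel.c13 s t
        rw [← h1]
        unfold kk
        group
    · intro s hs
      obtain ⟨t, ht⟩ := exists_tr P.rel.cube hB (a := s) (c := 1) hs (map_one σ)
      exact ⟨t, hne s t ht⟩
    · intro t ht
      obtain ⟨s, hs⟩ := exists_tr P.rel.cube hB (a := t) (c := 1) ht (map_one σ)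
      rw [trc_comm] at hs
      exact ⟨s, hne s t hs⟩
    · intro z hz s
      exact (nil12 P (hm1 s) hz).symm
    · intro z hz s
      exact nil23 P hz (hm3 s)
    · intro z hz w hw
      exact nil22 P hz hw
    · intro z hz
      obtain ⟨t, ht, rfl⟩ := (P.mem2 z).1 hz
      have := e2 ht
      rw [mul_inv_eq_iff_eq_mul] at this
      exact this
  -- the reflections
  obtain ⟨m23, hm23, hX23⟩ := exists_refl R (r23 (cs := cs))
  obtain ⟨m13, hm13, hX13⟩ := exists_refl R (r13 (cs := cs))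
  obtain ⟨m10, hm10, hX10⟩ := exists_refl R (r10 (cs := cs))
  have x23 : m23 * x = x * m23 := by
    refine (root_comm (cs := cs) hG1 hK hφ (isRoot_sr cs isCartan 1) r23 ?_ ?_ ?_ ?_ hxL hm23).symm
    · exact not_root (by decide +kernel)
    · exact not_root (by decide +kernel)
    · decide +kernel
    · decide +kernel
  -- `x` commutes with the long root groups
  have lx : ∀ {g : ↥(twistedD4 K 2)}, (∀ u ∈ Nodes.RGDTwD4.X φ 2 (toV [1, 0]), x * u = u * x) ∧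
      (∀ u ∈ Nodes.RGDTwD4.X φ 2 (toV [1, 3]), x * u = u * x) := by
    intro g
    constructor
    · intro u hu
      rw [X6' hle] at hu
      obtain ⟨t, ht, rfl⟩ := (P.mem6 u).1 hu
      have := e6 ht
      rw [mul_inv_eq_iff_eq_mul] at this
      exact this
    · intro u hu
      rw [X2' hle] at hu
      obtain ⟨t, ht, rfl⟩ := (P.mem2 u).1 hu
      have := e2 ht
      rw [mul_inv_eq_iff_eq_mul] at this
      exact this
  have l10 := (lx (g := 1)).1
  have l13 := (lx (g := 1)).2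
  have cjx : ∀ {v w : Fin 2 → ℤ}, cj m23 (Nodes.RGDTwD4.X φ 2 v) = Nodes.RGDTwD4.X φ 2 w →
      (∀ u ∈ Nodes.RGDTwD4.X φ 2 v, x * u = u * x) → ∀ u ∈ Nodes.RGDTwD4.X φ 2 w, x * u = u * x := by
    intro v w hvw hv u hu
    rw [← hvw] at hu
    obtain ⟨g, hg, rfl⟩ := hu
    show x * (m23 * g * m23⁻¹) = m23 * g * m23⁻¹ * x
    have h1 := hv g hg
    have h3 : m23⁻¹ * x = x * m23⁻¹ := by
      rw [inv_mul_eq_iff_eq_mul, ← mul_assoc, x23, mul_inv_cancel_right]
    calc x * (m23 * g * m23⁻¹) = (x * m23) * g * m23⁻¹ := by group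
      _ = m23 * (x * g) * m23⁻¹ := by rw [← x23]; group
      _ = m23 * g * (x * m23⁻¹) := by rw [h1]; group
      _ = _ := by rw [← h3]; group
  have k10 := cjx (refl_eq (cs := cs) r23 hX23 (y := toV [1, 3]) (w := -toV [1, 0]) r13 1 (by decide +kernel)
    (by decide +kernel) (by decide +kernel)) l13
  have k13 := cjx (refl_eq (cs := cs) r23 hX23 (y := toV [1, 0]) (w := -toV [1, 3]) r10 1 (by decide +kernel)
    (by decide +kernel) (by decide +kernel)) l10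
  have supc : ∀ {A B : Subgroup ↥(twistedD4 K 2)}, (∀ u ∈ A, x * u = u * x) → (∀ u ∈ B, x * u = u * x) →
      ∀ m ∈ A ⊔ B, m * x = x * m := by
    intro A B hA hB m hm
    have h1 : A ⊔ B ≤ Subgroup.centralizer ({x} : Set ↥(twistedD4 K 2)) := by
      refine sup_le ?_ ?_
      · intro u hu
        rw [Subgroup.mem_centralizer_singleton_iff]
        exact (hA u hu).symm
      · intro u hu
        rw [Subgroup.mem_centralizer_singleton_iff]
        exact (hB u hu).symm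
    exact (Subgroup.mem_centralizer_singleton_iff.1 (h1 hm))
  have x13 : m13 * x = x * m13 := supc l13 k13 _ hm13
  have x10 : m10 * x = x * m10 := supc l10 k10 _ hm10
  let gg : Fin 6 → ↥(twistedD4 K 2) := ![1, m13, m10, m13 * m10, m23, m13 * m23]
  have hgx : ∀ e, gg e * x = x * gg e := by
    intro e
    fin_cases e
    · show 1 * x = x * 1
      rw [one_mul, mul_one]
    · exact x13
    · exact x10
    · show m13 * m10 * x = x * (m13 * m10)
      rw [mul_assoc, x10, ← mul_assoc, x13, mul_assoc]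
    · exact x23
    · show m13 * m23 * x = x * (m13 * m23)
      rw [mul_assoc, x23, ← mul_assoc, x13, mul_assoc]
  have t13 := fun {y w : Fin 2 → ℤ} => refl_eq (cs := cs) r13 hX13 (y := y) (w := w)
  have t10 := fun {y w : Fin 2 → ℤ} => refl_eq (cs := cs) r10 hX10 (y := y) (w := w)
  have t23 := fun {y w : Fin 2 → ℤ} => refl_eq (cs := cs) r23 hX23 (y := y) (w := w)
  have hA : ∀ e, cj (gg e) (Nodes.RGDTwD4.X φ 2 (rts 0)) = Nodes.RGDTwD4.X φ 2 (rts (edA e)) := by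
    intro e
    fin_cases e
    · show cj 1 (Nodes.RGDTwD4.X φ 2 (rts 0)) = Nodes.RGDTwD4.X φ 2 (rts 0)
      exact cj_one _
    · exact t13 (rts_root 0) 1 (by decide +kernel) (by decide +kernel) (by decide +kernel)
    · exact t10 (rts_root 0) (-1) (by decide +kernel) (by decide +kernel) (by decide +kernel)
    · show cj (m13 * m10) (Nodes.RGDTwD4.X φ 2 (rts 0)) = Nodes.RGDTwD4.X φ 2 (rts 2)
      rw [cj_mul, t10 (w := rts 2) (rts_root 0) (-1) (by decide +kernel) (by decide +kernel) (by decide +kernel)]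
      exact t13 (rts_root 2) 0 (by decide +kernel) (by decide +kernel) (by decide +kernel)
    · exact t23 (rts_root 0) 0 (by decide +kernel) (by decide +kernel) (by decide +kernel)
    · show cj (m13 * m23) (Nodes.RGDTwD4.X φ 2 (rts 0)) = Nodes.RGDTwD4.X φ 2 (rts 4)
      rw [cj_mul, t23 (w := rts 0) (rts_root 0) 0 (by decide +kernel) (by decide +kernel) (by decide +kernel)]
      exact t13 (rts_root 0) 1 (by decide +kernel) (by decide +kernel) (by decide +kernel)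
  have hB : ∀ e, cj (gg e) (Nodes.RGDTwD4.X φ 2 (rts 1)) = Nodes.RGDTwD4.X φ 2 (rts (edB e)) := by
    intro e
    fin_cases e
    · show cj 1 (Nodes.RGDTwD4.X φ 2 (rts 1)) = Nodes.RGDTwD4.X φ 2 (rts 1)
      exact cj_one _
    · exact t13 (rts_root 1) 1 (by decide +kernel) (by decide +kernel) (by decide +kernel)
    · exact t10 (rts_root 1) 0 (by decide +kernel) (by decide +kernel) (by decide +kernel)
    · show cj (m13 * m10) (Nodes.RGDTwD4.X φ 2 (rts 1)) = Nodes.RGDTwD4.X φ 2 (rts 3)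
      rw [cj_mul, t10 (w := rts 1) (rts_root 1) 0 (by decide +kernel) (by decide +kernel) (by decide +kernel)]
      exact t13 (rts_root 1) 1 (by decide +kernel) (by decide +kernel) (by decide +kernel)
    · exact t23 (rts_root 1) 1 (by decide +kernel) (by decide +kernel) (by decide +kernel)
    · show cj (m13 * m23) (Nodes.RGDTwD4.X φ 2 (rts 1)) = Nodes.RGDTwD4.X φ 2 (rts 5)
      rw [cj_mul, t23 (w := rts 5) (rts_root 1) 1 (by decide +kernel) (by decide +kernel) (by decide +kernel)]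
      exact t13 (rts_root 5) 0 (by decide +kernel) (by decide +kernel) (by decide +kernel)
  refine six_uGood L hKc (fun e u => gg e * ev (X1 σ) u * (gg e)⁻¹) (fun e u => gg e * ev (X3 σ) u * (gg e)⁻¹)
    (fun e => (Hexagon.TwD4RGD.X K 2 2).map (MulAut.conj (gg e)).toMonoidHom) (fun e => D.conj (hgx e))
    (fun i => Nodes.RGDTwD4.X φ 2 (rts i)) ?_ ?_ (cl6 hK hφ) (top6 hK hφ)
  · intro e H
    rw [← hA e]
    exact mem_cj_iff (fun g => by
      show g ∈ Nodes.RGDTwD4.X φ 2 (toV [0, 1]) ↔ _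
      rw [X1' hle]; exact hc1 g) (gg e) H
  · intro e H
    rw [← hB e]
    exact mem_cj_iff (fun g => by
      show g ∈ Nodes.RGDTwD4.X φ 2 (toV [1, 2]) ↔ _
      rw [X3' hle]; exact hc3 g) (gg e) H

end Main

end Cfsg.Agent.H448.FprMers.D4Two
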